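import Cfsg.Agent.Lib.InvChar.SporData.J3B52.F0
import Cfsg.Agent.Lib.InvChar.SporData.J3B52.F1

set_option autoImplicit false
set_option maxRecDepth 100000

namespace CfsgLib.InvChar.Coset.J3B52

theorem facts_ok : ∀ j < 73, cert.chkRun 128 (j * 128) (cert.just.get j) = true := by
  intro j hj
  rcases Nat.lt_or_ge j 64 with h0 | h0
  · obtain ⟨i, rfl⟩ : ∃ i, j = 0 + i := ⟨j - 0, by omega⟩
    exact chkBlocks_get (D := cert) 64 0 chk_facts0 i (by omega)
  rcases Nat.lt_or_ge j 73 with h1 | h1
  · obtain ⟨i, rfl⟩ : ∃ i, j = 64 + i := ⟨j - 64, by omega⟩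
    exact chkBlocks_get (D := cert) 9 64 chk_facts1 i (by omega)
  omega

theorem goal_ok : cert.chkGoal 9252 89 0x241f01d6f02422024080240c0235602257023f302342024160240e02371021ce023a1023e6022510238f024190240d0225d02414022e60173b0217f023af022630221f024210206d015ac0241c0226e022a802417022550225401b9502420023f202135022b50194801e4a023fd023aa023db0240a0227601c3e02062023c4023c2023e80188502404022b7023b002158015d902418022ef02258023b1022b901a26023bc02278023280239101d1d0241e023fc023d40239d01f640232a024060227402027023c3024230213f01d3b0214801ce40241b023750000100000 [3, 2] = true := by decide +kernel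

/-- The goal word lies in every subgroup containing the subgroup words. -/
theorem mem {G : Type*} [Group G] (s : ℕ → G) (hs : ∀ x, s x * s x = 1)
    (hR : ∀ r ∈ rels, wprod s r = 1) (H : Subgroup G) (hS : ∀ r ∈ subs, wprod s r ∈ H) :
    wprod s [3, 2] ∈ H :=
  mem_of_goal hs (fun r hr => holds_of_blocks hs hR hS 73 (by decide +kernel) facts_ok r hr) goal_ok

end CfsgLib.InvChar.Coset.J3B52
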